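/-
S1144, octagons: the field and the frame (`O3d`: definition, `O3e`: existence, `O3b`: transport lemmas).
-/
import Cfsg.Agent.CHEV.FS.O3b
import Cfsg.Agent.CHEV.FS.Jd
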