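/-
S1144, octagons: pair frames and pair systems for the comparison of two octagons.
-/
import Cfsg.Agent.CHEV.FS.Uniq

set_option autoImplicit false

namespace CL.FS

variable {G G' : Type*} [Group G] [Group G']

/-- `Mu` in both components -/
def Mu2 (U : ℤ → Subgroup G) (U' : ℤ → Subgroup G') (i : ℤ) (a κ l : G × G') : Prop :=
  Mu 8 U i a.1 κ.1 l.1 ∧ Mu 8 U' i a.2 κ.2 l.2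

/-- the even root groups are generated by `V` and `κ(V)` -/
def Gen (U : ℤ → Subgroup G) : Prop :=
  ∀ i, i % 2 = 0 → U i ≤ V U 4 i ⊔ Subgroup.closure {t | ∃ v ∈ V U 4 (i + 8), ∃ l, Mu 8 U (i + 8) v t l}

/-- a pair frame -/
structure PF (U : ℤ → Subgroup G) (U' : ℤ → Subgroup G') (Y1 Y8 : Subgroup (G × G')) (n1 n8 : G × G') : Prop where
  g1 : Gr (U 1) (U' 1) Y1
  g8 : Gr (V U 4 8) (V U' 4 8) Y8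
  b1 : ∃ a ∈ Y1, ∃ κ l, Mu2 U U' 1 a κ l ∧ n1 = κ * a * l
  b8 : ∃ v ∈ Y8, ∃ κ l, Mu2 U U' 8 v κ l ∧ n8 = κ * v * l
  k1 : ∀ a ∈ Y1, ∀ κ l, Mu2 U U' 1 a κ l → cj κ n1 ∈ Y1
  h11 : ∀ a ∈ Y1, ∀ κ l, Mu2 U U' 1 a κ l → ∀ y ∈ Y1, cj y (κ * a * l * n1) ∈ Y1
  h18 : ∀ a ∈ Y1, ∀ κ l, Mu2 U U' 1 a κ l → ∀ y ∈ Y8, cj y (κ * a * l * n1) ∈ Y8
  h81 : ∀ v ∈ Y8, ∀ κ l, Mu2 U U' 8 v κ l → ∀ y ∈ Y1, cj y (κ * v * l * n8) ∈ Y1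
  h88 : ∀ v ∈ Y8, ∀ κ l, Mu2 U U' 8 v κ l → ∀ y ∈ Y8, cj y (κ * v * l * n8) ∈ Y8
  e5 : ∃ v ∈ Y8, ∃ w ∈ Y8, v ≠ 1 ∧ w ≠ 1 ∧ ∃ b ∈ (U 4).prod (U' 4), ∃ e ∈ Y1, ∃ c ∈ (U 6).prod (U' 6),
    cm (cj v n1) w⁻¹ = b * cj e (n8 * n1 * n8) * c

/-- a pair system -/
structure PS (U : ℤ → Subgroup G) (U' : ℤ → Subgroup G') (Z : ℤ → Subgroup (G × G')) : Prop where
  per : ∀ i, Z (i + 16) = Z i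
  go : ∀ i, i % 2 = 1 → Gr (U i) (U' i) (Z i)
  ge : ∀ i, i % 2 = 0 → Gr (V U 4 i) (V U' 4 i) (Z i)
  k : ∀ i, i % 2 = 1 → ∀ a ∈ Z i, ∀ κ l, Mu2 U U' i a κ l → κ ∈ Z (i + 8)
  rf : ∀ i, ∀ a ∈ Z i, ∀ κ l, Mu2 U U' i a κ l → Rf Z (2 * i + 8) (κ * a * l)
  e5 : ∃ v ∈ Z 2, ∃ w ∈ Z 8, v ≠ 1 ∧ w ≠ 1 ∧ ∃ b ∈ (U 4).prod (U' 4), ∃ e ∈ Z 5, ∃ c ∈ (U 6).prod (U' 6),
    cm v w⁻¹ = b * e * c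

end CL.FS
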